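import Groth.Agent.FieldPow.Main
import Groth.Agent.FibCrit.Props
import Groth.Agent.GrpField.FibreHom

/-!
# Power maps of smooth commutative groups, and points over local schemes agreeing at the closed point
-/

universe u
open CategoryTheory CategoryTheory.Limits MonoidalCategory CartesianMonoidalCategory MonObj GrpObj AlgebraicGeometry

set_option autoImplicit false
set_option linter.style.haveILetI false
set_option backward.isDefEq.respectTransparency false

namespace Groth.Agent.PowEtale

/-- For a smooth commutative group over a ring, raising to an invertible power is étale. -/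
theorem etale_pow {R : Type u} [CommRing R] (N : Over (Spec (CommRingCat.of R))) [GrpObj N] [IsCommMonObj N]
    [Smooth N.hom] {n : ℕ} (hn : IsUnit (n : R)) : Etale ((𝟙 N : N ⟶ N) ^ n).left := by
  rw [← zpow_natCast (𝟙 N) n]
  have hnu : IsUnit ((n : ℤ) : R) := by rwa [Int.cast_natCast]
  let S := Spec (CommRingCat.of R)
  open scoped CategoryTheory.Obj in
  exact Groth.Agent.FibCrit.etale_of_fibres (g := N.hom) (h := N.hom) (Over.w _) fun s => by
    let Xs := Groth.Agent.GrpField.fib N s
    letI : GrpObj Xs := Groth.Agent.GrpField.fibGrp N s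
    haveI : LocallyOfFiniteType Xs.hom :=
      inferInstanceAs (LocallyOfFiniteType (pullback.snd N.hom (S.fromSpecResidueField s)))
    haveI : IsCommMonObj Xs := inferInstanceAs (IsCommMonObj ((Over.pullback (S.fromSpecResidueField s)).obj N))
    have hn' : ((n : ℤ) : S.residueField s) ≠ 0 := by
      have h := (hnu.map (Scheme.ΓSpecIso (CommRingCat.of R)).inv.hom).map (S.presheaf.germ ⊤ s trivial ≫ S.residue s).hom
      rw [map_intCast, map_intCast] at h
      exact h.ne_zero
    have he := Groth.Agent.FieldPow.etale_pow Xs hn'
    have hmap : Groth.Agent.GrpField.fibHom (𝟙 N ^ (n : ℤ)) s = 𝟙 Xs ^ (n : ℤ) := by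
      refine (map_zpow (Over.pullback (S.fromSpecResidueField s)).homMonoidHom (𝟙 N) (n : ℤ)).trans ?_
      exact congrArg (fun f => f ^ (n : ℤ)) ((Over.pullback (S.fromSpecResidueField s)).map_id N)
    have hsq := Groth.Agent.GrpField.isPullback_fibHom (𝟙 N ^ (n : ℤ)) s
    rw [hmap] at hsq
    exact (MorphismProperty.cancel_left_of_respectsIso @Etale hsq.isoPullback.hom _).1
      (by erw [IsPullback.isoPullback_hom_snd]; exact he)

/-- Two points over a local scheme with the same image under an unramified morphism agree once they agree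
at a morphism hitting the closed point. -/
theorem eq_of_comp_eq {R : Type u} [CommRing R] [IsLocalRing R] {X Y T : Scheme.{u}}
    (a b : Spec (CommRingCat.of R) ⟶ X) (m : X ⟶ Y) [FormallyUnramified m] [LocallyOfFiniteType m]
    (hm : a ≫ m = b ≫ m) (i : T ⟶ Spec (CommRingCat.of R)) (t : T) (ht : i t = IsLocalRing.closedPoint R)
    (hi : i ≫ a = i ≫ b) : a = b := by
  let l : Spec (CommRingCat.of R) ⟶ pullback m m := pullback.lift a b hm
  have hl : l (IsLocalRing.closedPoint R) ∈ Set.range (pullback.diagonal m) := by
    have e : i ≫ l = (i ≫ a) ≫ pullback.diagonal m := by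
      ext
      · simp [l]
      · simp [l, hi]
    refine ⟨(i ≫ a) t, ?_⟩
    rw [← ht, ← Scheme.Hom.comp_apply, ← Scheme.Hom.comp_apply, e]
  have hrange : Set.range l ⊆ Set.range (pullback.diagonal m) := by
    rintro _ ⟨s, rfl⟩
    exact ((IsLocalRing.specializes_closedPoint s).map l.continuous).mem_open
      (pullback.diagonal m).isOpenEmbedding.isOpen_range hl
  have hfac := IsOpenImmersion.lift_fac (pullback.diagonal m) l hrange
  have e1 : l ≫ pullback.fst m m = a := pullback.lift_fst _ _ _
  have e2 : l ≫ pullback.snd m m = b := pullback.lift_snd _ _ _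
  rw [← e1, ← e2, ← hfac, Category.assoc, Category.assoc, pullback.diagonal_fst, pullback.diagonal_snd]

end Groth.Agent.PowEtale
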